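import Mathlib.Algebra.Polynomial.Laurent
import Mathlib.RingTheory.GradedAlgebra.HomogeneousLocalization
import Mathlib.RingTheory.Localization.Away.Basic

/-!
# `A_f = A_(f)[T, T⁻¹]` for `f` homogeneous of degree one

For an `ℕ`-graded ring `A` and `f ∈ 𝒜 1`, the map `A_(f)[T;T⁻¹] → A_f`, `T ↦ f`, is bijective.
-/

set_option autoImplicit false
universe u v

namespace Groth.Agent.Ega2.H285.AwayLaurent

open HomogeneousLocalization LaurentPolynomial

variable {R : Type v} {A : Type u} [CommRing R] [CommRing A] [Algebra R A] (𝒜 : ℕ → Submodule R A) [GradedAlgebra 𝒜]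
variable {f : A} (hf : f ∈ 𝒜 1)

/-- `a / f ^ n` for `a` homogeneous of degree `n`. -/
noncomputable def frac (n : ℕ) (a : A) (ha : a ∈ 𝒜 n) : Away 𝒜 f :=
  Away.mk 𝒜 hf n a (by simpa using ha)

theorem val_frac (n : ℕ) (a : A) (ha : a ∈ 𝒜 n) :
    (frac 𝒜 hf n a ha).val = Localization.mk a (⟨f ^ n, n, rfl⟩ : Submonoid.powers f) :=
  Away.val_mk _ _ _ _ _

theorem val_frac_mul (n : ℕ) (a : A) (ha : a ∈ 𝒜 n) :
    (frac 𝒜 hf n a ha).val * algebraMap A (Localization.Away f) f ^ n =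
      algebraMap A (Localization.Away f) a := by
  rw [val_frac, ← map_pow, Localization.mk_eq_mk']
  exact IsLocalization.mk'_spec (M := Submonoid.powers f) (Localization.Away f) a ⟨f ^ n, n, rfl⟩

theorem frac_surjective (z : Away 𝒜 f) :
    ∃ (n : ℕ) (a : A) (ha : a ∈ 𝒜 n), frac 𝒜 hf n a ha = z := by
  obtain ⟨n, a, ha, h⟩ := Away.mk_surjective 𝒜 hf z
  exact ⟨n, a, by simpa using ha, h⟩

theorem eq_frac_iff (n : ℕ) (a : A) (ha : a ∈ 𝒜 n) (z : Away 𝒜 f) :
    z = frac 𝒜 hf n a ha ↔ z.val * algebraMap A (Localization.Away f) f ^ n =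
      algebraMap A (Localization.Away f) a := by
  rw [HomogeneousLocalization.ext_iff_val, ← val_frac_mul 𝒜 hf n a ha]
  constructor
  · intro h; rw [h]
  · intro h
    exact ((IsLocalization.Away.algebraMap_isUnit (S := Localization.Away f) f).pow n).mul_left_injective h

/-- the component `a ↦ (a / f ^ n) T ^ n` -/
noncomputable def comp (n : ℕ) : 𝒜 n →+ (Away 𝒜 f)[T;T⁻¹] where
  toFun a := C (frac 𝒜 hf n a.1 a.2) * T n
  map_zero' := by
    have : frac 𝒜 hf n (0 : 𝒜 n).1 (0 : 𝒜 n).2 = 0 := by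
      symm; rw [eq_frac_iff]; simp
    rw [this]; simp
  map_add' a b := by
    have : frac 𝒜 hf n (a + b).1 (a + b).2 = frac 𝒜 hf n a.1 a.2 + frac 𝒜 hf n b.1 b.2 := by
      symm; rw [eq_frac_iff, HomogeneousLocalization.val_add, add_mul, val_frac_mul, val_frac_mul]
      simp
    rw [this, map_add, add_mul]

theorem comp_one : comp 𝒜 hf 0 (GradedMonoid.GOne.one (A := fun i => 𝒜 i)) = 1 := by
  change C (frac 𝒜 hf 0 1 _) * T ((0 : ℕ) : ℤ) = 1
  have : frac 𝒜 hf 0 1 SetLike.GradedOne.one_mem = 1 := by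
    symm; rw [eq_frac_iff]; simp
  rw [this]; simp

theorem comp_mul {i j : ℕ} (a : 𝒜 i) (b : 𝒜 j) :
    comp 𝒜 hf (i + j) (GradedMonoid.GMul.mul (A := fun i => 𝒜 i) a b) = comp 𝒜 hf i a * comp 𝒜 hf j b := by
  change C (frac 𝒜 hf (i + j) (a.1 * b.1) _) * T ((i + j : ℕ) : ℤ) =
    (C (frac 𝒜 hf i a.1 a.2) * T (i : ℤ)) * (C (frac 𝒜 hf j b.1 b.2) * T (j : ℤ))
  have : frac 𝒜 hf (i + j) (a.1 * b.1) (SetLike.mul_mem_graded a.2 b.2) =
      frac 𝒜 hf i a.1 a.2 * frac 𝒜 hf j b.1 b.2 := by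
    symm
    rw [eq_frac_iff, HomogeneousLocalization.val_mul, map_mul, ← val_frac_mul 𝒜 hf i a.1 a.2,
      ← val_frac_mul 𝒜 hf j b.1 b.2, pow_add]
    ring
  rw [this, map_mul, Nat.cast_add, T_add]
  ring

/-- `A → A_(f)[T;T⁻¹]`, `Σ a_n ↦ Σ (a_n / f ^ n) T ^ n`. -/
noncomputable def toL : A →+* (Away 𝒜 f)[T;T⁻¹] :=
  (DirectSum.toSemiring (comp 𝒜 hf) (comp_one 𝒜 hf) (comp_mul 𝒜 hf)).comp
    (DirectSum.decomposeRingEquiv 𝒜 : A →+* DirectSum ℕ fun i => 𝒜 i)

theorem toL_of_mem (n : ℕ) (a : A) (ha : a ∈ 𝒜 n) :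
    toL 𝒜 hf a = C (frac 𝒜 hf n a ha) * T n := by
  have h1 : toL 𝒜 hf a = DirectSum.toSemiring (comp 𝒜 hf) (comp_one 𝒜 hf) (comp_mul 𝒜 hf)
    (DirectSum.decompose 𝒜 a) := rfl
  rw [h1, DirectSum.decompose_of_mem 𝒜 ha, DirectSum.toSemiring_of]
  rfl

theorem toL_self : toL 𝒜 hf f = T 1 := by
  rw [toL_of_mem 𝒜 hf 1 f hf]
  have : frac 𝒜 hf 1 f hf = 1 := by
    symm; rw [eq_frac_iff]; simp
  rw [this]; simp

/-- `A_f → A_(f)[T;T⁻¹]`. -/
noncomputable def toL' : Localization.Away f →+* (Away 𝒜 f)[T;T⁻¹] :=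
  IsLocalization.Away.lift (S := Localization.Away f) (g := toL 𝒜 hf) f
    (by rw [toL_self]; exact isUnit_T 1)

theorem toL'_algebraMap (a : A) : toL' 𝒜 hf (algebraMap _ _ a) = toL 𝒜 hf a :=
  IsLocalization.Away.lift_eq (S := Localization.Away f) (g := toL 𝒜 hf) f _ a

/-- `f` as a unit of `A_f` -/
noncomputable def fUnit (f : A) : (Localization.Away f)ˣ :=
  (IsLocalization.Away.algebraMap_isUnit (S := Localization.Away f) f).unit

@[simp] theorem fUnit_val (f : A) : (fUnit f : Localization.Away f) = algebraMap _ _ f := rfl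

/-- `A_(f)[T;T⁻¹] → A_f`, `T ↦ f`. -/
noncomputable def fromL (f : A) : (Away 𝒜 f)[T;T⁻¹] →+* Localization.Away f :=
  LaurentPolynomial.eval₂ (algebraMap (Away 𝒜 f) (Localization.Away f)) (fUnit f)

theorem fromL_C (z : Away 𝒜 f) : fromL 𝒜 f (C z) = algebraMap (Away 𝒜 f) (Localization.Away f) z := by
  rw [fromL, eval₂_C]

theorem fromL_T (n : ℤ) : fromL 𝒜 f (T n) = ((fUnit f ^ n : (Localization.Away f)ˣ) : Localization.Away f) := by
  rw [fromL, eval₂_T]

theorem fromL_toL (a : A) : fromL 𝒜 f (toL 𝒜 hf a) = algebraMap _ _ a := by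
  classical
  rw [← DirectSum.sum_support_decompose 𝒜 a, map_sum, map_sum, map_sum]
  refine Finset.sum_congr rfl fun n _ => ?_
  rw [toL_of_mem 𝒜 hf n _ (SetLike.coe_mem _), map_mul, fromL_C, fromL_T, zpow_natCast,
    Units.val_pow_eq_pow_val, fUnit_val, HomogeneousLocalization.algebraMap_apply, val_frac_mul]

theorem fromL_toL' (a : Localization.Away f) : fromL 𝒜 f (toL' 𝒜 hf a) = a := by
  have h : (fromL 𝒜 f).comp (toL' 𝒜 hf) = RingHom.id _ := by
    apply IsLocalization.ringHom_ext (Submonoid.powers f)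
    ext a
    rw [RingHom.comp_apply, RingHom.comp_apply, toL'_algebraMap, fromL_toL]
    rfl
  exact RingHom.congr_fun h a

theorem toL'_fUnit (n : ℤ) : toL' 𝒜 hf ((fUnit f ^ n : (Localization.Away f)ˣ) : Localization.Away f) = T n := by
  have key : ∀ n : ℕ, toL' 𝒜 hf ((fUnit f ^ n : (Localization.Away f)ˣ) : Localization.Away f) = T n := by
    intro n
    rw [Units.val_pow_eq_pow_val, fUnit_val, map_pow, toL'_algebraMap, toL_self, T_pow, mul_one]
  rcases Int.eq_nat_or_neg n with ⟨m, rfl | rfl⟩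
  · rw [zpow_natCast]; exact key m
  · have h1 : toL' 𝒜 hf ((fUnit f ^ (-(m : ℤ)) : (Localization.Away f)ˣ) : Localization.Away f) *
        toL' 𝒜 hf ((fUnit f ^ m : (Localization.Away f)ˣ) : Localization.Away f) = 1 := by
      rw [← map_mul, ← Units.val_mul, ← zpow_natCast, ← zpow_add, neg_add_cancel, zpow_zero, Units.val_one,
        map_one]
    rw [key m] at h1
    have h2 : T (-(m : ℤ)) * T (m : ℤ) = (1 : (Away 𝒜 f)[T;T⁻¹]) := by
      rw [← T_add, neg_add_cancel, T_zero]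
    exact (isUnit_T (m : ℤ)).mul_left_injective (h1.trans h2.symm)

theorem toL'_algebraMap_away (z : Away 𝒜 f) :
    toL' 𝒜 hf (algebraMap (Away 𝒜 f) (Localization.Away f) z) = C z := by
  obtain ⟨n, a, ha, rfl⟩ := frac_surjective 𝒜 hf z
  have h1 : toL' 𝒜 hf (algebraMap (Away 𝒜 f) (Localization.Away f) (frac 𝒜 hf n a ha)) * T (n : ℤ) =
      C (frac 𝒜 hf n a ha) * T (n : ℤ) := by
    rw [← toL_of_mem 𝒜 hf n a ha, ← toL'_algebraMap, ← val_frac_mul 𝒜 hf n a ha, map_mul, map_pow,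
      toL'_algebraMap, toL_self, T_pow, mul_one]
    rfl
  exact (isUnit_T (n : ℤ)).mul_left_injective h1

theorem toL'_fromL (p : (Away 𝒜 f)[T;T⁻¹]) : toL' 𝒜 hf (fromL 𝒜 f p) = p := by
  induction p using LaurentPolynomial.induction_on' with
  | add p q hp hq => rw [map_add, map_add, hp, hq]
  | C_mul_T n z => rw [map_mul, map_mul, fromL_C, fromL_T, toL'_fUnit, toL'_algebraMap_away]

/-- `A_(f)[T;T⁻¹] ≃ A_f` over `A_(f)`, `T ↦ f`, for `f` homogeneous of degree one. -/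
noncomputable def awayEquiv : (Away 𝒜 f)[T;T⁻¹] ≃+* Localization.Away f :=
  { fromL 𝒜 f with
    toFun := fromL 𝒜 f
    invFun := toL' 𝒜 hf
    left_inv := toL'_fromL 𝒜 hf
    right_inv := fromL_toL' 𝒜 hf }

theorem awayEquiv_C (z : Away 𝒜 f) :
    awayEquiv 𝒜 hf (C z) = algebraMap (Away 𝒜 f) (Localization.Away f) z := fromL_C 𝒜 z

theorem awayEquiv_T : awayEquiv 𝒜 hf (T 1) = algebraMap A (Localization.Away f) f := by
  change fromL 𝒜 f (T 1) = _
  rw [fromL_T, zpow_one, fUnit_val]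

end Groth.Agent.Ega2.H285.AwayLaurent
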